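import Groth.Agent.Lib.ModSiteLoc.Top
import Groth.Agent.Lib.ModTensor.Monoidal
import Groth.Agent.Lib.ModTensor.Local
import Mathlib.RingTheory.LocalRing.MaximalIdeal.Basic

/-!
# Invertible modules on a ringed space: the pairing on stalks
-/

set_option autoImplicit false
set_option linter.style.haveILetI false
set_option backward.isDefEq.respectTransparency false

universe u

open CategoryTheory Limits Opposite TopologicalSpace MonoidalCategory
open scoped TensorProduct

namespace Groth.Agent.Lib.RG57.InvMod.Stalk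

open Groth.Agent.Lib.ModSiteLoc.Basic Groth.Agent.Lib.ModSiteLoc.Top
open Groth.Agent.Lib.ModTensor

variable {X : TopCat.{u}} {O : CategoryTheory.Sheaf (Opens.grothendieckTopology X) CommRingCat.{u}}

variable {M N : _root_.ModSite.Mod O}

/-- A pairing of `M` and `N` with values in the structure sheaf. -/
abbrev Pairing (M N : _root_.ModSite.Mod O) :=
  ((Monoidal.G O).obj M : Monoidal.PM O) ⊗ (Monoidal.G O).obj N ⟶ (Monoidal.G O).obj (_root_.ModSite.unit O)

variable (E : Pairing M N)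

/-- The value of the pairing on sections. -/
noncomputable def B {U : Opens X} (s : _root_.ModSite.sect M U) (t : _root_.ModSite.sect N U) : O.obj.obj (op U) :=
  (E.app (op U)).hom (Local.tm ((Monoidal.G O).obj M) ((Monoidal.G O).obj N) s t)

theorem B_rs {U V : Opens X} (v : V ⟶ U) (s : _root_.ModSite.sect M U) (t : _root_.ModSite.sect N U) :
    rr O v (B E s t) = B E (rs M v s) (rs N v t) :=
  (PresheafOfModules.naturality_apply E v.op _).symm

theorem B_add_left {U : Opens X} (s s' : _root_.ModSite.sect M U) (t : _root_.ModSite.sect N U) :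
    B E (s + s') t = B E s t + B E s' t :=
  (congrArg (E.app (op U)).hom (TensorProduct.add_tmul s s' t)).trans (map_add (E.app (op U)).hom _ _)

theorem B_add_right {U : Opens X} (s : _root_.ModSite.sect M U) (t t' : _root_.ModSite.sect N U) :
    B E s (t + t') = B E s t + B E s t' :=
  (congrArg (E.app (op U)).hom (TensorProduct.tmul_add s t t')).trans (map_add (E.app (op U)).hom _ _)

theorem B_smul_left {U : Opens X} (r : O.obj.obj (op U)) (s : _root_.ModSite.sect M U) (t : _root_.ModSite.sect N U) :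
    B E (r • s) t = r * B E s t :=
  (congrArg (E.app (op U)).hom (TensorProduct.smul_tmul' (R := O.obj.obj (op U)) (R' := O.obj.obj (op U)) r s t).symm).trans ((E.app (op U)).hom.map_smul r _)

theorem B_smul_right {U : Opens X} (r : O.obj.obj (op U)) (s : _root_.ModSite.sect M U) (t : _root_.ModSite.sect N U) :
    B E s (r • t) = r * B E s t :=
  (congrArg (E.app (op U)).hom (TensorProduct.tmul_smul (R := O.obj.obj (op U)) (R' := O.obj.obj (op U)) r s t)).trans ((E.app (op U)).hom.map_smul r _)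

variable {x : X}

/-- Representing a pair of germs over a common neighbourhood. -/
theorem exists_rep (z : _root_.ModSite.stalkAb (pt x) M) (w : _root_.ModSite.stalkAb (pt x) N) :
    ∃ (U : Opens X) (hU : x ∈ U) (s : _root_.ModSite.sect M U) (t : _root_.ModSite.sect N U),
      gm M hU s = z ∧ gm N hU t = w := by
  obtain ⟨U, -, hU, s, hs⟩ := exists_gm (M := M) (Opens.mem_top x) (fun _ : Unit => z)
  obtain ⟨V, hVU, hV, t, ht⟩ := exists_gm (M := N) hU (fun _ : Unit => w)
  exact ⟨V, hV, rs M (homOfLE hVU) (s ()), t (), (gm_rs _ hV hU _).trans (hs ()), ht ()⟩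

/-- The germ of the pairing depends only on germs. -/
theorem gr_B_congr {U V : Opens X} (hU : x ∈ U) (hV : x ∈ V)
    (s : _root_.ModSite.sect M U) (t : _root_.ModSite.sect N U)
    (s' : _root_.ModSite.sect M V) (t' : _root_.ModSite.sect N V)
    (hs : gm M hU s = gm M hV s') (ht : gm N hU t = gm N hV t') :
    gr O hU (B E s t) = gr O hV (B E s' t') := by
  have hW : x ∈ U ⊓ V := ⟨hU, hV⟩
  let i : U ⊓ V ⟶ U := homOfLE inf_le_left
  let j : U ⊓ V ⟶ V := homOfLE inf_le_right
  obtain ⟨W₁, h₁, hx₁, e₁⟩ := exists_rs_eq (M := M) hW (fun _ : Unit => rs M i s) (fun _ => rs M j s')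
    (fun _ => by rw [gm_rs i hW hU, gm_rs j hW hV]; exact hs)
  obtain ⟨W, h₂, hx, e₂⟩ := exists_rs_eq (M := N) hx₁ (fun _ : Unit => rs N (homOfLE h₁) (rs N i t))
    (fun _ => rs N (homOfLE h₁) (rs N j t'))
    (fun _ => by rw [gm_rs _ hx₁ hW, gm_rs _ hx₁ hW, gm_rs i hW hU, gm_rs j hW hV]; exact ht)
  rw [← gr_rr (homOfLE (h₂.trans (h₁.trans inf_le_left))) hx hU (B E s t),
    ← gr_rr (homOfLE (h₂.trans (h₁.trans inf_le_right))) hx hV (B E s' t'), B_rs, B_rs]
  have a₁ := congrArg (rs M (homOfLE h₂)) (e₁ ())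
  have a₂ := e₂ ()
  simp only [rs_rs] at a₁ a₂
  exact congrArg (gr O hx) (congrArg₂ (B E) a₁ a₂)

/-- The pairing on stalks, as a function. -/
noncomputable def μ₀ (z : _root_.ModSite.stalkAb (pt x) M) (w : _root_.ModSite.stalkAb (pt x) N) :
    _root_.ModSite.stalkRing (pt x) O :=
  gr O (exists_rep z w).choose_spec.choose
    (B E (exists_rep z w).choose_spec.choose_spec.choose (exists_rep z w).choose_spec.choose_spec.choose_spec.choose)

theorem μ₀_gm {U : Opens X} (hU : x ∈ U) (s : _root_.ModSite.sect M U) (t : _root_.ModSite.sect N U) :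
    μ₀ E (gm M hU s) (gm N hU t) = gr O hU (B E s t) :=
  have h := (exists_rep (gm M hU s) (gm N hU t)).choose_spec.choose_spec.choose_spec.choose_spec
  gr_B_congr E _ hU _ _ _ _ h.1 h.2

theorem μ₀_add_left (z z' : _root_.ModSite.stalkAb (pt x) M) (w : _root_.ModSite.stalkAb (pt x) N) :
    μ₀ E (z + z') w = μ₀ E z w + μ₀ E z' w := by
  obtain ⟨U, hU, s, t, rfl, rfl⟩ := exists_rep z w
  obtain ⟨V, hVU, hV, s', hs'⟩ := exists_gm (M := M) hU (fun _ : Unit => z')
  rw [← hs' (), ← gm_rs (M := M) (homOfLE hVU) hV hU s, ← gm_rs (M := N) (homOfLE hVU) hV hU t,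
    ← map_add, μ₀_gm, μ₀_gm, μ₀_gm, B_add_left, map_add]

theorem μ₀_add_right (z : _root_.ModSite.stalkAb (pt x) M) (w w' : _root_.ModSite.stalkAb (pt x) N) :
    μ₀ E z (w + w') = μ₀ E z w + μ₀ E z w' := by
  obtain ⟨U, hU, s, t, rfl, rfl⟩ := exists_rep z w
  obtain ⟨V, hVU, hV, t', ht'⟩ := exists_gm (M := N) hU (fun _ : Unit => w')
  rw [← ht' (), ← gm_rs (M := M) (homOfLE hVU) hV hU s, ← gm_rs (M := N) (homOfLE hVU) hV hU t,
    ← map_add, μ₀_gm, μ₀_gm, μ₀_gm, B_add_right, map_add]

theorem μ₀_smul_left (r : _root_.ModSite.stalkRing (pt x) O) (z : _root_.ModSite.stalkAb (pt x) M)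
    (w : _root_.ModSite.stalkAb (pt x) N) : μ₀ E (r • z) w = r * μ₀ E z w := by
  obtain ⟨U, hU, s, t, rfl, rfl⟩ := exists_rep z w
  obtain ⟨V, hVU, hV, a, ha⟩ := exists_gr (O := O) hU (fun _ : Unit => r)
  rw [← ha (), ← gm_rs (M := M) (homOfLE hVU) hV hU s, ← gm_rs (M := N) (homOfLE hVU) hV hU t,
    ← gm_smul, μ₀_gm, μ₀_gm, B_smul_left, map_mul]

theorem μ₀_smul_right (r : _root_.ModSite.stalkRing (pt x) O) (z : _root_.ModSite.stalkAb (pt x) M)
    (w : _root_.ModSite.stalkAb (pt x) N) : μ₀ E z (r • w) = r * μ₀ E z w := by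
  obtain ⟨U, hU, s, t, rfl, rfl⟩ := exists_rep z w
  obtain ⟨V, hVU, hV, a, ha⟩ := exists_gr (O := O) hU (fun _ : Unit => r)
  rw [← ha (), ← gm_rs (M := M) (homOfLE hVU) hV hU s, ← gm_rs (M := N) (homOfLE hVU) hV hU t,
    ← gm_smul, μ₀_gm, μ₀_gm, B_smul_right, map_mul]

/-- The pairing on stalks. -/
noncomputable def μ (x : X) :
    _root_.ModSite.stalkMod (pt x) M →ₗ[_root_.ModSite.stalkRing (pt x) O]
      _root_.ModSite.stalkMod (pt x) N →ₗ[_root_.ModSite.stalkRing (pt x) O] _root_.ModSite.stalkRing (pt x) O :=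
  LinearMap.mk₂ _ (μ₀ E) (μ₀_add_left E) (μ₀_smul_left E) (μ₀_add_right E) (μ₀_smul_right E)

theorem μ_gm {U : Opens X} (hU : x ∈ U) (s : _root_.ModSite.sect M U) (t : _root_.ModSite.sect N U) :
    μ E x (gm M hU s) (gm N hU t) = gr O hU (B E s t) :=
  μ₀_gm E hU s t

/-- Germs of tensors in the tensor product of the stalks. -/
noncomputable def toStalkTensor {U : Opens X} (hU : x ∈ U) :
    ↑((((Monoidal.G O).obj M : Monoidal.PM O) ⊗ (Monoidal.G O).obj N).obj (op U)) →+
      _root_.ModSite.stalkMod (pt x) M ⊗[_root_.ModSite.stalkRing (pt x) O] _root_.ModSite.stalkMod (pt x) N :=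
  TensorProduct.liftAddHom (R := O.obj.obj (op U)) (M := _root_.ModSite.sect M U) (N := _root_.ModSite.sect N U)
    { toFun := fun s =>
        { toFun := fun t => (gm M hU s) ⊗ₜ[_root_.ModSite.stalkRing (pt x) O] (gm N hU t)
          map_zero' := by rw [map_zero, TensorProduct.tmul_zero]
          map_add' := fun t t' => by rw [map_add, TensorProduct.tmul_add] }
      map_zero' := by ext t; simp
      map_add' := fun s s' => by ext t; simp [TensorProduct.add_tmul] }
    (fun r s t => by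
      simp only [AddMonoidHom.coe_mk, ZeroHom.coe_mk, gm_smul]
      exact TensorProduct.smul_tmul _ _ _)

/-- A pure tensor with zero pairing vanishes in the tensor product of the stalks. -/
theorem tmul_eq_zero [hinj : PresheafOfModules.IsLocallyInjective (Opens.grothendieckTopology X) E]
    (z : _root_.ModSite.stalkMod (pt x) M) (w : _root_.ModSite.stalkMod (pt x) N) (h : μ E x z w = 0) :
    z ⊗ₜ[_root_.ModSite.stalkRing (pt x) O] w = 0 := by
  obtain ⟨U, hU, s, t, rfl, rfl⟩ := exists_rep z w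
  rw [μ_gm] at h
  obtain ⟨V, hVU, hV, e⟩ := exists_rr_eq (O := O) hU (fun _ : Unit => B E s t) (fun _ => 0)
    (fun _ => by rw [h, map_zero])
  have e' : B E (rs M (homOfLE hVU) s) (rs N (homOfLE hVU) t) = 0 := by
    rw [← B_rs, e (), map_zero]
  obtain ⟨S, hS, hS'⟩ := Local.exists_cover_zero (Opens.grothendieckTopology X) E (X := op V)
    (fun _ : Unit => Local.tm ((Monoidal.G O).obj M) ((Monoidal.G O).obj N) (rs M (homOfLE hVU) s) (rs N (homOfLE hVU) t))
    (fun _ => e')
  obtain ⟨W, hWV, hW, hSW⟩ := exists_nhd hS hV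
  have e'' := congrArg (toStalkTensor (M := M) (N := N) hW) (hS' _ hSW ())
  rw [map_zero] at e''
  refine Eq.trans ?_ e''
  show gm M hU s ⊗ₜ[_root_.ModSite.stalkRing (pt x) O] gm N hU t =
    gm M hW (rs M (homOfLE hWV) (rs M (homOfLE hVU) s)) ⊗ₜ[_root_.ModSite.stalkRing (pt x) O]
      gm N hW (rs N (homOfLE hWV) (rs N (homOfLE hVU) t))
  rw [gm_rs _ hW hV, gm_rs _ hW hV, gm_rs _ hV hU, gm_rs _ hV hU]

/-- Some value of the pairing is a unit in the local ring at `x`. -/
theorem exists_isUnit [hsurj : PresheafOfModules.IsLocallySurjective (Opens.grothendieckTopology X) E]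
    [IsLocalRing (_root_.ModSite.stalkRing (pt x) O)] :
    ∃ (a : _root_.ModSite.stalkMod (pt x) M) (b : _root_.ModSite.stalkMod (pt x) N), IsUnit (μ E x a b) := by
  obtain ⟨S, hS, hS'⟩ := Local.exists_cover_lift (Opens.grothendieckTopology X) E (X := op (⊤ : Opens X))
    (fun _ : Unit => (1 : O.obj.obj (op (⊤ : Opens X))))
  obtain ⟨V, hV', hV, hSV⟩ := exists_nhd hS (Opens.mem_top x)
  obtain ⟨p, hp⟩ := hS' _ hSV
  obtain ⟨n, a, b, hn⟩ := Local.exists_sum_tm (p ())
  have h1 : ∑ i, gr O hV (B E (a i) (b i)) = 1 := by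
    rw [← map_sum]
    have h2 : ∑ i, B E (a i) (b i) = (E.app (op V)).hom (p ()) := by
      rw [hn]
      exact (map_sum (E.app (op V)).hom _ _).symm
    rw [h2, hp ()]
    exact (gr_rr (O := O) (homOfLE hV') hV (Opens.mem_top x) 1).trans (map_one _)
  by_contra hne
  simp only [not_exists] at hne
  have : ∀ i, gr O hV (B E (a i) (b i)) ∈ IsLocalRing.maximalIdeal (_root_.ModSite.stalkRing (pt x) O) := fun i =>
    (IsLocalRing.mem_maximalIdeal _).2 fun hu => hne (gm M hV (a i)) (gm N hV (b i)) (by rwa [μ_gm])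
  exact (IsLocalRing.maximalIdeal.isMaximal _).ne_top ((Ideal.eq_top_iff_one _).2 (h1 ▸ sum_mem fun i _ => this i))

variable [PresheafOfModules.IsLocallyInjective (Opens.grothendieckTopology X) E]
  [PresheafOfModules.IsLocallySurjective (Opens.grothendieckTopology X) E]

/-- The stalk is free of rank one. -/
theorem exists_generator [IsLocalRing (_root_.ModSite.stalkRing (pt x) O)] :
    ∃ (a : _root_.ModSite.stalkMod (pt x) M) (b : _root_.ModSite.stalkMod (pt x) N), IsUnit (μ E x a b) ∧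
      (∀ z : _root_.ModSite.stalkMod (pt x) M, ∃ c : _root_.ModSite.stalkRing (pt x) O, z = c • a) := by
  obtain ⟨a, b, hab⟩ := exists_isUnit E (x := x)
  obtain ⟨u, hu⟩ := hab
  refine ⟨a, b, ⟨u, hu⟩, fun z => ⟨μ E x z b * ↑u⁻¹, ?_⟩⟩
  have h0 : μ E x (z - (μ E x z b * ↑u⁻¹) • a) b = 0 := by
    rw [map_sub, LinearMap.sub_apply, LinearMap.map_smul₂, ← hu, smul_eq_mul, mul_assoc, Units.inv_mul, mul_one,
      sub_self]
  have h1 := congrArg ((TensorProduct.rid _ (_root_.ModSite.stalkMod (pt x) M)).toLinearMap ∘ₗ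
    LinearMap.lTensor _ (μ E x a)) (tmul_eq_zero E _ _ h0)
  rw [map_zero, LinearMap.comp_apply, LinearMap.lTensor_tmul, LinearEquiv.coe_coe, TensorProduct.rid_tmul, ← hu,
    ← Units.smul_def, smul_eq_zero_iff_eq] at h1
  exact sub_eq_zero.1 h1

/-- A stalk element outside `m` times the stalk has a unit pairing and is a free generator. -/
theorem of_notMem [IsLocalRing (_root_.ModSite.stalkRing (pt x) O)] (z : _root_.ModSite.stalkMod (pt x) M)
    (hz : z ∉ IsLocalRing.maximalIdeal (_root_.ModSite.stalkRing (pt x) O) •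
      (⊤ : Submodule (_root_.ModSite.stalkRing (pt x) O) (_root_.ModSite.stalkMod (pt x) M))) :
    (∃ b, IsUnit (μ E x z b)) ∧
      Function.Bijective (fun r : _root_.ModSite.stalkRing (pt x) O => r • z) := by
  obtain ⟨a, b, hab, hgen⟩ := exists_generator E (x := x)
  obtain ⟨c, rfl⟩ := hgen z
  have hc : IsUnit c := by
    by_contra hc
    exact hz (Submodule.smul_mem_smul ((IsLocalRing.mem_maximalIdeal _).2 hc) Submodule.mem_top)
  have hzb : IsUnit (μ E x (c • a) b) := by
    rw [LinearMap.map_smul₂, smul_eq_mul]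
    exact hc.mul hab
  refine ⟨⟨b, hzb⟩, fun r r' h => hzb.mul_right_cancel ?_, fun w => ?_⟩
  · simpa only [LinearMap.map_smul₂, smul_eq_mul] using congrArg (fun v => μ E x v b) h
  · obtain ⟨d, rfl⟩ := hgen w
    obtain ⟨v, rfl⟩ := hc
    exact ⟨d * ↑v⁻¹, by simp [smul_smul]⟩

omit [PresheafOfModules.IsLocallyInjective (Opens.grothendieckTopology X) E]
  [PresheafOfModules.IsLocallySurjective (Opens.grothendieckTopology X) E] in
/-- An element with a unit pairing is not in `m` times the stalk. -/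
theorem notMem_of_isUnit [IsLocalRing (_root_.ModSite.stalkRing (pt x) O)] (z : _root_.ModSite.stalkMod (pt x) M)
    (b : _root_.ModSite.stalkMod (pt x) N) (h : IsUnit (μ E x z b)) :
    z ∉ IsLocalRing.maximalIdeal (_root_.ModSite.stalkRing (pt x) O) •
      (⊤ : Submodule (_root_.ModSite.stalkRing (pt x) O) (_root_.ModSite.stalkMod (pt x) M)) := fun hz => by
  refine (IsLocalRing.mem_maximalIdeal _).1 ?_ h
  refine Submodule.smul_induction_on hz (fun r hr y _ => ?_) fun y y' hy hy' => ?_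
  · rw [LinearMap.map_smul₂, smul_eq_mul]
    exact Ideal.mul_mem_right _ _ hr
  · rw [map_add, LinearMap.add_apply]
    exact add_mem hy hy'

include E in
/-- The locus where a section generates is open, and it generates there. -/
theorem isOpen_and_bijective (hO : ∀ x : X, IsLocalRing (_root_.ModSite.stalkRing (pt x) O))
    (U : Opens X) (s : _root_.ModSite.sect M U) :
    IsOpen {x : X | ∃ hx : x ∈ U, gm M hx s ∉
        (@IsLocalRing.maximalIdeal (_root_.ModSite.stalkRing (pt x) O) _ (hO x)) •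
          (⊤ : Submodule (_root_.ModSite.stalkRing (pt x) O) (_root_.ModSite.stalkMod (pt x) M))} ∧
      ∀ (x : X) (hx : x ∈ U), gm M hx s ∉
          (@IsLocalRing.maximalIdeal (_root_.ModSite.stalkRing (pt x) O) _ (hO x)) •
            (⊤ : Submodule (_root_.ModSite.stalkRing (pt x) O) (_root_.ModSite.stalkMod (pt x) M)) →
        Function.Bijective (fun a : _root_.ModSite.stalkRing (pt x) O =>
          a • (gm M hx s : _root_.ModSite.stalkMod (pt x) M)) := by
  refine ⟨isOpen_iff_mem_nhds.2 ?_, fun x hx h => @(haveI := hO x; (of_notMem E _ h).2)⟩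
  rintro x ⟨hx, h⟩
  haveI := hO x
  obtain ⟨b, hb⟩ := (of_notMem E _ h).1
  obtain ⟨V, hVU, hV, t, ht⟩ := exists_gm (M := N) hx (fun _ : Unit => b)
  rw [← ht (), ← gm_rs (M := M) (homOfLE hVU) hV hx s, μ_gm] at hb
  obtain ⟨r, hr⟩ := hb.exists_right_inv
  obtain ⟨V', hV'V, hV', q, hq⟩ := exists_gr (O := O) hV (fun _ : Unit => r)
  obtain ⟨W, hWV', hW, e⟩ := exists_rr_eq (O := O) hV'
    (fun _ : Unit => rr O (homOfLE hV'V) (B E (rs M (homOfLE hVU) s) (t ())) * q ()) (fun _ => 1)
    (fun _ => by rw [map_mul, gr_rr _ hV' hV, hq (), hr, map_one])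
  refine Filter.mem_of_superset (W.isOpen.mem_nhds hW) fun y hy => ?_
  haveI := hO y
  have hyV' : y ∈ V' := hWV' hy
  have hyV : y ∈ V := hV'V hyV'
  refine ⟨hVU hyV, notMem_of_isUnit E _ (gm N hyV (t ())) ?_⟩
  rw [← gm_rs (M := M) (homOfLE hVU) hyV (hVU hyV) s, μ_gm]
  refine IsUnit.of_mul_eq_one (gr O hyV' (q ())) ?_
  rw [← gr_rr (homOfLE hV'V) hyV' hyV, ← map_mul, ← gr_rr (homOfLE hWV') hy hyV', e (), map_one, map_one]

end Groth.Agent.Lib.RG57.InvMod.Stalk
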